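import Cfsg.Agent.H701.F43.Cent
import Cfsg.Agent.H700.F43.Wrd

/-!
# `C(x_θ(1)) = P₁'` in `F₄(3)` (S2465, block E)

* `xp_mem_MM` : the root elements of the 18 roots of `C₃` are words in the six letters `rC`;
* `mem_PP_iff` : `g ∈ PP ↔ g * xp 47 = xp 47 * g`.
-/

set_option autoImplicit false

namespace Cfsg.Agent.H701.F43.CzP

open Cfsg.Lie Cfsg.Agent.H700.F43
open Cfsg.Agent.Tits.Roots Cfsg.Agent.Tits.Core Cfsg.Agent.Nodes.BNOf Cfsg.Agent.Nodes.StabComb
  Cfsg.Agent.Nodes.LeviDec Cfsg.Agent.Nodes.RGDChev Cfsg.Agent.KFacts.RgdChevCoord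
open Cfsg.Agent.H701.F43.Cent (idxV idxM)

/-- the letters of `n_i` -/
def nL (b : Bool) : ℕ → List (ℕ × Bool)
  | 0 => [(33, b), (14, !b), (33, b)]
  | 1 => [(27, b), (20, !b), (27, b)]
  | _ => [(25, b), (22, !b), (25, b)]

/-- the number of a simple root -/
def sN : ℕ → ℕ
  | 0 => 33
  | 1 => 27
  | _ => 25

/-- the conjugate of a simple root element -/
def cj (w : List ℕ) (i : ℕ) (b : Bool) : List (ℕ × Bool) :=
  w.flatMap (nL true) ++ [(sN i, b)] ++ w.reverse.flatMap (nL false)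

/-- words from the simple roots to all roots of `C₃` -/
def tab : List (ℕ × List ℕ × ℕ) := [(33, [], 0), (27, [], 1), (25, [], 2), (14, [0], 0), (34, [1], 0), (20, [1], 1),
  (28, [2], 1), (30, [1], 2), (22, [2], 2), (13, [1, 0], 0), (35, [2, 1], 0), (19, [2, 1], 1), (41, [0, 1], 2),
  (17, [1, 2], 2), (12, [2, 1, 0], 0), (37, [1, 2, 1], 0), (6, [0, 1, 2], 2), (10, [1, 2, 1, 0], 0)]

theorem tab_idx : ∀ r ∈ idxM, ∃ e ∈ tab, e.1 = r := by decide +kernel

theorem chk_tab : (tab.all fun e => chkE (cj e.2.1 e.2.2 true) [(e.1, true)] ||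
    chkE (cj e.2.1 e.2.2 false) [(e.1, true)]) = true := by decide +kernel

theorem chk_let : (tab.all fun e => ((cj e.2.1 e.2.2 true).all fun p => decide (p.1 ∈ rC)) &&
    ((cj e.2.1 e.2.2 false).all fun p => decide (p.1 ∈ rC))) = true := by decide +kernel

theorem wd_mem {S : List ℕ} (hS : ∀ r ∈ S, r < 48) {w : List (ℕ × Bool)} (h : ∀ p ∈ w, p.1 ∈ S) : wd w ∈ Gp S := by
  induction w with
  | nil => exact one_mem _
  | cons p w ih =>
    rw [wd_cons]
    refine mul_mem ?_ (ih fun q hq => h q (List.mem_cons_of_mem _ hq))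
    have h1 : p.1 ∈ S := h p List.mem_cons_self
    obtain ⟨r, b⟩ := p
    cases b
    · rw [xr_false (hS r h1)]
      exact mul_mem (xp_mem h1) (xp_mem h1)
    · exact xp_mem h1

theorem xp_mem_MM {r : ℕ} (hr : r ∈ idxM) : xp r ∈ MM := by
  obtain ⟨e, he, rfl⟩ := tab_idx r hr
  have h1 := List.all_eq_true.1 chk_tab e he
  have h2 := List.all_eq_true.1 chk_let e he
  rw [Bool.and_eq_true, List.all_eq_true, List.all_eq_true] at h2
  rw [Bool.or_eq_true] at h1
  rcases h1 with h1 | h1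
  · have h3 : wd (cj e.2.1 e.2.2 true) = xp e.1 := (word_eq h1).trans (wd_single _)
    exact h3 ▸ (wd_mem rC_lt fun p hp => by simpa using h2.1 p hp)
  · have h3 : wd (cj e.2.1 e.2.2 false) = xp e.1 := (word_eq h1).trans (wd_single _)
    exact h3 ▸ (wd_mem rC_lt fun p hp => by simpa using h2.2 p hp)

theorem chk_theta : (chkE [(24, true), (46, true), (24, false), (46, false)] [(47, true)] ||
    chkE [(46, true), (24, true), (46, false), (24, false)] [(47, true)]) = true := by decide +kernel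

theorem xp_theta : xp 47 ∈ QQ := by
  have h := chk_theta
  rw [Bool.or_eq_true] at h
  rcases h with h | h
  · have h3 : wd [(24, true), (46, true), (24, false), (46, false)] = xp 47 := (word_eq h).trans (wd_single _)
    exact h3 ▸ wd_mem rQ_lt (by decide)
  · have h3 : wd [(46, true), (24, true), (46, false), (24, false)] = xp 47 := (word_eq h).trans (wd_single _)
    exact h3 ▸ wd_mem rQ_lt (by decide)

theorem xp_mem_QQ {r : ℕ} (hr : r ∈ idxV) : xp r ∈ QQ := by
  have h : r ∈ rQ ∨ r = 47 := by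
    revert r
    decide
  rcases h with h | rfl
  · exact xp_mem h
  · exact xp_theta

theorem z3 : ∀ t : ZMod 3, t = 0 ∨ t = 1 ∨ t = -1 := by decide

/-- a root group -/
theorem XX_le {r : ℕ} (hr : r < 48) {S : Subgroup Gm} (h : xp r ∈ S) : XX chevF4 4 (ZMod 3) (vec chevF4 4 r) ≤ S := by
  have h48 : r < chevF4.nroots := by rw [Cent.nroots]; exact hr
  intro y hy
  have hc := (coords (K := ZMod 3) Cent.hF Cent.cF 3).coord _ ((isRoot_iff Cent.hF Cent.cF _).2 ⟨r, h48, rfl⟩)
  obtain ⟨t, rfl⟩ := (hc.mem y).1 hy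
  rcases z3 t with rfl | rfl | rfl
  · rw [hc.zero]
    exact one_mem _
  · exact h
  · have h1 : xc Cent.hF (vec chevF4 4 r) (-1 : ZMod 3) = xp r * xp r := xr_false hr
    rw [h1]
    exact mul_mem h h

theorem VV_le : Cent.VV (ZMod 3) ≤ QQ := by
  refine RGD.Sup_le fun x hx => ?_
  obtain ⟨r, hr, rfl⟩ := Cent.mem_NotJ_iff.1 hx
  have h48 := Cent.lt_idxV r hr
  rw [Cent.nroots] at h48
  exact XX_le h48 (xp_mem_QQ hr)

theorem MM_le' : Cent.MM (ZMod 3) ≤ MM := by
  refine RGD.Sup_le fun x hx => ?_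
  obtain ⟨r, hr, rfl⟩ := Cent.mem_RootsJ_iff.1 hx
  have h48 := Cent.lt_idxM r hr
  rw [Cent.nroots] at h48
  exact XX_le h48 (xp_mem_MM hr)

theorem chk_comm : ((rQ ++ rC).all fun r => chkE [(r, true), (47, true)] [(47, true), (r, true)]) = true := by
  decide +kernel

/-- **`C(x_θ(1)) = P₁'`.** -/
theorem mem_PP_iff {g : Gm} : g ∈ PP ↔ g * xp 47 = xp 47 * g := by
  constructor
  · intro hg
    have h1 : PP ≤ Subgroup.centralizer ({xp 47} : Set Gm) := by
      unfold PP Gp
      rw [Subgroup.closure_le]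
      rintro _ ⟨r, hr, rfl⟩
      have h1 : chkE [(r, true), (47, true)] [(47, true), (r, true)] = true := List.all_eq_true.1 chk_comm r hr
      have h2 : wd [(r, true), (47, true)] = wd [(47, true), (r, true)] := word_eq h1
      rw [wd_cons, wd_single, wd_cons, wd_single] at h2
      exact Subgroup.mem_centralizer_singleton_iff.2 h2
    have h2 : g ∈ Subgroup.centralizer ({xp 47} : Set Gm) := h1 hg
    rwa [Subgroup.mem_centralizer_singleton_iff] at h2
  · intro h
    have e : xp 47 = xc Cent.hF (vec chevF4 4 47) (1 : ZMod 3) := rfl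
    rw [e] at h
    obtain ⟨v, hv, m, hm, rfl⟩ := Cent.cent (K := ZMod 3) (c := 1) one_ne_zero h
    exact mul_mem (QQ_le (VV_le hv)) (MM_le (MM_le' hm))

end Cfsg.Agent.H701.F43.CzP
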